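import Cfsg.Agent.Mrg.Omega.F4Leaf.Exit.Tr
import Cfsg.Agent.Mrg.Omega.F4Leaf.Pos

section


/-!
# LeafF4, EXIT LEMMA #21087, step (0): `N_G(V)` permutes the letters

Over `Pos.Sit` (`m ≥ 2`), assuming that `O₂(C_G(r_ij))` induces `(i j)` (`Mov`):
* `Sit.count` : at most `2^m + 1` letters: commuting centres;
* `Sit.duad` : `N_G(V)` maps pairs to pairs;
* `Sit.exists_perm` : an element of `N_G(V)` acts on `A` as a permutation;
* `Sit.norm_A`, `Sit.norm_cv` : `N_G(V)` normalises `A` and `V₀`;
* `Sit.transv` : every transvection of `N_G(V)` on `V` is a transposition.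
-/

set_option autoImplicit false
set_option linter.dupNamespace false

namespace Cfsg.Agent.Omega.F4Leaf.Exit.Dua

open Subgroup Pointwise Cfsg Cfsg.Agent Cfsg.Agent.Omega.MinPar
open Cfsg.Agent.ZN (o2 zc zl)
open Cfsg.Agent.Omega.FrameFF (cv Single Free)
open Cfsg.Agent.Omega.S5.Def Cfsg.Agent.Omega.S5.Syl Cfsg.Agent.Omega.F4Leaf.Def
open Cfsg.Agent.Omega.NSix.Base Cfsg.Agent.Omega.NSix.Basic Cfsg.Agent.Omega.F4Leaf.Pos
open Cfsg.Agent.Omega.F4Leaf.Exit.Tr
open Cfsg.Agent.MinSimple.VModule (o2_isPGroup o2_le le_o2 le_normalizer_o2 le_normalizer_zl)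

universe u

variable {G : Type u} [Group G]

/-- `O₂(C_G(r_ij))` induces the transposition `(i j)`. -/
def Mov {n : ℕ} (ε : (Fin n → ZMod 2) → G) : Prop :=
  ∀ i j : Fin n, i ≠ j → ∃ w ∈ o2 (NN ε i j), Acts ε w (Equiv.swap i j)

theorem mov_of {n : ℕ} {A P : Subgroup G} {ε : (Fin n → ZMod 2) → G} (hE : EvenSet n A P ε) {i j : Fin n}
    (hij : i ≠ j) {w : G} (hw : w ∈ o2 (NN ε i j)) (hs : Acts ε w (Equiv.swap i j)) : Mov ε := by
  intro k l hkl
  obtain ⟨σ, h1, h2, -⟩ := exists_perm hij hkl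
  obtain ⟨g, -, hσ⟩ := hE.full σ
  refine ⟨g * w * g⁻¹, ?_, ?_⟩
  · have h3 := push (g := g) hw
    rw [rr_conj hσ, h1, h2] at h3
    exact h3
  · have h3 := hσ.conj hs
    have e : σ * Equiv.swap i j * σ⁻¹ = Equiv.swap k l := by
      rw [← h1, ← h2, Equiv.swap_apply_apply]
    rwa [e] at h3

/-- Enumeration of a set of `2 t` letters by pairs. -/
theorem pairing {α : Type*} [DecidableEq α] (T : Finset α) (t : ℕ) (h : T.card = 2 * t) :
    ∃ p : Fin t ⊕ Fin t → α, Function.Injective p ∧ ∀ a, p a ∈ T := by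
  have e1 : Fin t ⊕ Fin t ≃ Fin (t + t) := finSumFinEquiv
  have e2 : T ≃ Fin (t + t) := T.equivFinOfCardEq (by omega)
  refine ⟨fun a => (e2.symm (e1 a)).1, fun a b hab => ?_, fun a => (e2.symm (e1 a)).2⟩
  exact e1.injective (e2.symm.injective (Subtype.ext hab))

variable [Finite G] {S : Sylow 2 G} {P : Subgroup G} {m : ℕ} {A : Subgroup G} {ε : (Fin (2 ^ m + 1) → ZMod 2) → G}

theorem Sit.five (h : Sit S P m A ε) : 5 ≤ 2 ^ m + 1 := by
  have h1 : 2 ^ 2 ≤ 2 ^ m := Nat.pow_le_pow_right (by norm_num) h.m2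
  omega

theorem Sit.S_le (h : Sit S P m A ε) : (S : Subgroup G) ≤ normalizer (zl (S : Subgroup G) P : Set G) :=
  h.par.le.trans (le_normalizer_zl _ _)

/-- An element of `V` and a pair. -/
theorem Sit.move_iff (h : Sit S P m A ε) (hw : Mov ε) {i j : Fin (2 ^ m + 1)} (hij : i ≠ j) {v : G}
    (hv : v ∈ cv (S : Subgroup G) P) (x : Fin (2 ^ m + 1) → ZMod 2) :
    (∀ y ∈ o2 (NN ε i j), y * (v * ε x) * y⁻¹ = v * ε x) ↔ x i = x j := by
  have hE := h.split.even
  have hsw : x ∘ (Equiv.swap i j).symm = x ↔ x i = x j := by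
    rw [Equiv.symm_swap]
    constructor
    · intro h1
      have h2 := congrFun h1 i
      simp only [Function.comp, Equiv.swap_apply_left] at h2
      exact h2.symm
    · intro h1
      funext k
      simp only [Function.comp]
      by_cases hk : k = i
      · rw [hk, Equiv.swap_apply_left, h1]
      by_cases hk' : k = j
      · rw [hk', Equiv.swap_apply_right, h1]
      · rw [Equiv.swap_apply_of_ne_of_ne hk hk']
  have hcomp : ∀ y ∈ o2 (NN ε i j), y * (v * ε x) * y⁻¹ = v * (y * ε x * y⁻¹) := by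
    intro y hy
    calc y * (v * ε x) * y⁻¹ = y * v * ε x * y⁻¹ := by group
      _ = v * y * ε x * y⁻¹ := by rw [h.comm_V0 hij hy hv]
      _ = _ := by group
  constructor
  · intro h1
    obtain ⟨w, hw1, hw2⟩ := hw i j hij
    have h2 := h1 w hw1
    rw [hcomp w hw1] at h2
    have h3 : w * ε x * w⁻¹ = ε x := mul_left_cancel h2
    rw [hw2 x] at h3
    rcases hE.eq_iff.mp h3 with h4 | h4
    · exact hsw.mp h4
    · exfalso
      -- `x ∘ swap = x + 1` is impossible: look at a third letter
      obtain ⟨o, ho⟩ : ∃ o : Fin (2 ^ m + 1), o ∉ ({i, j} : Finset (Fin (2 ^ m + 1))) := by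
        by_contra hno
        push Not at hno
        have h5 := Finset.card_le_card (fun x _ => hno x : (Finset.univ : Finset (Fin (2 ^ m + 1))) ⊆ {i, j})
        have h6 : ({i, j} : Finset (Fin (2 ^ m + 1))).card ≤ 2 := Finset.card_le_two
        rw [Finset.card_univ, Fintype.card_fin] at h5
        have := Sit.five h
        omega
      simp only [Finset.mem_insert, Finset.mem_singleton, not_or] at ho
      have h5 := congrFun h4 o
      rw [Equiv.symm_swap] at h5
      simp only [Function.comp, Equiv.swap_apply_of_ne_of_ne ho.1 ho.2, Pi.add_apply, Pi.one_apply] at h5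
      have h6 : (1 : ZMod 2) = 0 := by
        have := congrArg (fun t => t - x o) h5
        simpa using this.symm
      exact absurd h6 (by decide)
  · intro h1 y hy
    rw [hcomp y hy]
    rcases h.acts hij hy with h2 | h2
    · rw [h2 x]
      rfl
    · rw [h2 x, hsw.mpr h1]

/-- The pairs are centres. -/
theorem Sit.tr (h : Sit S P m A ε) (hw : Mov ε) {i j : Fin (2 ^ m + 1)} (hij : i ≠ j) :
    Tr (zl (S : Subgroup G) P) (rr ε i j) where
  mem := h.split.A_le (rr_mem h.split.even i j)
  norm := (h.o2_le_P hij).trans (le_normalizer_zl _ _)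
  act _ hx _ hv := h.conj_V hij hx hv
  mov := by
    obtain ⟨w, hw1, hw2⟩ := hw i j hij
    refine ⟨w, hw1, zz ε i, h.split.A_le (zz_mem h.split.even i), fun h1 => hij ?_⟩
    rw [zz_conj hw2, Equiv.swap_apply_left] at h1
    exact (h.split.even.single_inj h.three h1).symm
  uni x hx y hy h1 h2 v hv := by
    have key : ∀ x ∈ o2 (NN ε i j), (∃ v ∈ zl (S : Subgroup G) P, x * v * x⁻¹ ≠ v) →
        Acts ε x (Equiv.swap i j) := by
      intro x hx h1
      refine (h.acts hij hx).resolve_left fun h2 => ?_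
      obtain ⟨v, hv, h3⟩ := h1
      obtain ⟨c, hc, a, ha, rfl⟩ := h.mul_eq hv
      obtain ⟨y, rfl⟩ := h.split.even.surj a ha
      apply h3
      calc x * (c * ε y) * x⁻¹ = x * c * ε y * x⁻¹ := by group
        _ = c * x * ε y * x⁻¹ := by rw [h.comm_V0 hij hx hc]
        _ = c * (x * ε y * x⁻¹) := by group
        _ = c * ε y := by rw [h2 y]; rfl
    obtain ⟨c, hc, a, ha, rfl⟩ := h.mul_eq hv
    obtain ⟨z, rfl⟩ := h.split.even.surj a ha
    have e : ∀ x ∈ o2 (NN ε i j), (∃ v ∈ zl (S : Subgroup G) P, x * v * x⁻¹ ≠ v) →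
        x * (c * ε z) * x⁻¹ = c * ε (z ∘ (Equiv.swap i j).symm) := by
      intro x hx h1
      calc x * (c * ε z) * x⁻¹ = x * c * ε z * x⁻¹ := by group
        _ = c * x * ε z * x⁻¹ := by rw [h.comm_V0 hij hx hc]
        _ = c * (x * ε z * x⁻¹) := by group
        _ = _ := by rw [key x hx h1 z]
    rw [e x hx h1, e y hy h2]

/-- A transvection which acts as a permutation is a transposition. -/
theorem Sit.of_acts (h : Sit S P m A ε) {x c : G} {σ : Equiv.Perm (Fin (2 ^ m + 1))} (hσ : Acts ε x σ)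
    (hx : ∀ v ∈ cv (S : Subgroup G) P, x * v = v * x)
    (hc : ∀ v ∈ zl (S : Subgroup G) P, x * v * x⁻¹ = v ∨ x * v * x⁻¹ = v * c)
    (hm : ∃ v ∈ zl (S : Subgroup G) P, x * v * x⁻¹ ≠ v) :
    ∃ i j, i ≠ j ∧ c = rr ε i j ∧ Acts ε x (Equiv.swap i j) := by
  have hE := h.split.even
  have key : ∀ i, σ i ≠ i → c = rr ε i (σ i) := by
    intro i hi
    have h1 := zz_conj hσ i
    rcases hc (zz ε i) (h.split.A_le (zz_mem hE i)) with h2 | h2
    · exfalso
      rw [h1] at h2
      exact hi (hE.single_inj h.three h2)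
    · rw [h1] at h2
      unfold rr
      rw [h2, ← mul_assoc, zz_sq hE, one_mul]
  obtain ⟨i, hi⟩ : ∃ i, σ i ≠ i := by
    by_contra hall
    push Not at hall
    have h1 : σ = 1 := Equiv.ext hall
    obtain ⟨v, hv, h2⟩ := hm
    obtain ⟨a, ha, b, hb, rfl⟩ := h.mul_eq hv
    obtain ⟨y, rfl⟩ := hE.surj b hb
    apply h2
    calc x * (a * ε y) * x⁻¹ = x * a * ε y * x⁻¹ := by group
      _ = a * x * ε y * x⁻¹ := by rw [hx a ha]
      _ = a * (x * ε y * x⁻¹) := by group
      _ = a * ε y := by rw [hσ y, h1]; rfl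
  refine ⟨i, σ i, hi.symm, key i hi, ?_⟩
  have h1 : ∀ k, σ k ≠ k → (k = i ∧ σ k = σ i) ∨ (k = σ i ∧ σ k = i) := by
    intro k hk
    have h2 : rr ε i (σ i) = rr ε k (σ k) := by rw [← key i hi, ← key k hk]
    exact pair_eq hE (Sit.five h) hi.symm h2
  have h2 : σ (σ i) = i := by
    rcases h1 (σ i) (fun h3 => hi (σ.injective h3)) with h3 | h3
    · exact absurd h3.1 hi
    · exact h3.2
  have h3 : σ = Equiv.swap i (σ i) := by
    ext k
    congr 1
    by_cases hk : σ k = k
    · rw [Equiv.swap_apply_of_ne_of_ne]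
      · exact hk
      · rintro rfl
        exact hi hk
      · rintro rfl
        exact hi (σ.injective hk)
    · rcases h1 k hk with h4 | h4
      · rw [h4.1, Equiv.swap_apply_left]
      · rw [h4.1, Equiv.swap_apply_right, h2]
  rw [h3] at hσ
  exact hσ

/-- A transvection in `S` is a transposition. -/
theorem Sit.of_S (h : Sit S P m A ε) {x c : G} (hx : x ∈ (S : Subgroup G))
    (hc : ∀ v ∈ zl (S : Subgroup G) P, x * v * x⁻¹ = v ∨ x * v * x⁻¹ = v * c)
    (hm : ∃ v ∈ zl (S : Subgroup G) P, x * v * x⁻¹ ≠ v) :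
    ∃ i j, i ≠ j ∧ c = rr ε i j ∧ Acts ε x (Equiv.swap i j) := by
  obtain ⟨σ, hσ⟩ := h.split.even.perm x (h.par.le hx)
  exact Sit.of_acts h hσ (fun v hv => h.V0_comm hv (h.par.le hx)) hc hm

/-- **Commuting centres.** -/
theorem Sit.count (h : Sit S P m A ε) {ι : Type*} [Fintype ι] (F : ι → G) (hF : Function.Injective F)
    (hT : ∀ a, Tr (zl (S : Subgroup G) P) (F a))
    (hc : ∀ a b, ∀ x ∈ o2 (centralizer ({F a} : Set G)), x * F b * x⁻¹ = F b) :
    2 * Fintype.card ι ≤ 2 ^ m + 1 := by
  classical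
  have hE := h.split.even
  have hcen : ∀ a b, o2 (centralizer ({F a} : Set G)) ≤ centralizer ({F b} : Set G) := by
    intro a b x hx
    rw [mem_centralizer_singleton_iff, ← mul_inv_eq_iff_eq_mul]
    exact hc a b x hx
  have hD : IsPGroup 2 ((⨆ a ∈ (Finset.univ : Finset ι), o2 (centralizer ({F a} : Set G)) : Subgroup G)) :=
    HOne.isPGroup_iSup _ _ (fun _ _ => o2_isPGroup _) fun a _ b _ => (hcen a b).trans (le_normalizer_o2 _)
  have hDn : (⨆ a ∈ (Finset.univ : Finset ι), o2 (centralizer ({F a} : Set G)) : Subgroup G) ≤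
      normalizer (zl (S : Subgroup G) P : Set G) := iSup₂_le fun a _ => (hT a).norm
  obtain ⟨g, hg, hgD⟩ := exists_conj hDn S.isPGroup' hD
    (MinSimple.Basic.not_dvd_relIndex S (Sit.S_le h))
  have hmem : ∀ a, ∀ x ∈ o2 (centralizer ({F a} : Set G)), g * x * g⁻¹ ∈ (S : Subgroup G) := fun a x hx =>
    hgD x ((le_iSup₂ (f := fun a (_ : a ∈ (Finset.univ : Finset ι)) => o2 (centralizer ({F a} : Set G))) a
      (Finset.mem_univ a)) hx)
  have key : ∀ a, ∃ i j, i ≠ j ∧ g * F a * g⁻¹ = rr ε i j ∧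
      ∃ x ∈ o2 (centralizer ({F a} : Set G)), Acts ε (g * x * g⁻¹) (Equiv.swap i j) := by
    intro a
    obtain ⟨x, hx, v, hv, hne⟩ := (hT a).mov
    have hT' := (hT a).conj hg
    obtain ⟨i, j, h1, h2, h3⟩ := Sit.of_S h (hmem a x hx) (hT'.act _ (push hx))
      ⟨g * v * g⁻¹, norm_conj hg hv, fun h2 => hne (by
        have e : g * x * g⁻¹ * (g * v * g⁻¹) * (g * x * g⁻¹)⁻¹ = g * (x * v * x⁻¹) * g⁻¹ := by group
        rw [e] at h2
        exact mul_left_cancel (mul_right_cancel h2))⟩
    exact ⟨i, j, h1, h2, x, hx, h3⟩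
  choose p q hpq hr x hx hs using key
  -- the pairs are disjoint
  have hdis : ∀ a b, (p a = p b ∨ p a = q b ∨ q a = p b ∨ q a = q b) → a = b := by
    intro a b hab
    have h1 : g * x a * g⁻¹ * rr ε (p b) (q b) * (g * x a * g⁻¹)⁻¹ = rr ε (p b) (q b) := by
      rw [← hr b]
      have e : g * x a * g⁻¹ * (g * F b * g⁻¹) * (g * x a * g⁻¹)⁻¹ = g * (x a * F b * (x a)⁻¹) * g⁻¹ := by group
      rw [e, hc a b _ (hx a)]
    rw [rr_conj (hs a)] at h1
    have h2 := pair_eq hE (Sit.five h) (i := p b) (j := q b) (hpq b) h1.symm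
    have h3 : (p a = p b ∧ q a = q b) ∨ (p a = q b ∧ q a = p b) := by
      rcases hab with h4 | h4 | h4 | h4
      · left
        refine ⟨h4, ?_⟩
        rw [← h4, Equiv.swap_apply_left] at h2
        rcases h2 with h5 | h5
        · exact absurd h5.1.symm (hpq a)
        · exact h5.1
      · right
        refine ⟨h4, ?_⟩
        rw [← h4, Equiv.swap_apply_left] at h2
        rcases h2 with h5 | h5
        · exact absurd h5.2.symm (hpq a)
        · exact h5.2
      · right
        refine ⟨?_, h4⟩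
        rw [← h4, Equiv.swap_apply_right] at h2
        rcases h2 with h5 | h5
        · exact absurd h5.1 (hpq a)
        · exact h5.1
      · left
        refine ⟨?_, h4⟩
        rw [← h4, Equiv.swap_apply_right] at h2
        rcases h2 with h5 | h5
        · exact absurd h5.2 (hpq a)
        · exact h5.2
    apply hF
    have h4 : g * F a * g⁻¹ = g * F b * g⁻¹ := by
      rw [hr a, hr b]
      rcases h3 with h5 | h5
      · rw [h5.1, h5.2]
      · rw [h5.1, h5.2, rr_symm hE]
    exact mul_left_cancel (mul_right_cancel h4)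
  have hinj : Function.Injective (Sum.elim p q : ι ⊕ ι → Fin (2 ^ m + 1)) := by
    rintro (a | a) (b | b) hab
    · exact congrArg Sum.inl (hdis a b (Or.inl hab))
    · exfalso
      have h1 := hdis a b (Or.inr (Or.inl hab))
      subst h1
      exact hpq a hab
    · exfalso
      have h1 := hdis a b (Or.inr (Or.inr (Or.inl hab)))
      subst h1
      exact hpq a hab.symm
    · exact congrArg Sum.inr (hdis a b (Or.inr (Or.inr (Or.inr hab))))
  have h1 := Fintype.card_le_of_injective _ hinj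
  rw [Fintype.card_sum, Fintype.card_fin] at h1
  omega

/-- **A centre is a pair.** -/
theorem Sit.pair_of_tr (h : Sit S P m A ε) (hw : Mov ε) {c : G} (hc : Tr (zl (S : Subgroup G) P) c) :
    ∃ k l, k ≠ l ∧ c = rr ε k l := by
  classical
  have hE := h.split.even
  have hm := h.m2
  by_contra hne
  push Not at hne
  -- even representative
  obtain ⟨v, hv, a, ha, hva⟩ := h.mul_eq hc.mem
  obtain ⟨x₀, hx₀⟩ := hE.surj a ha
  have hcard : ∀ x : Fin (2 ^ m + 1) → ZMod 2, (Finset.univ.filter fun i => x i = 1).card +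
      (Finset.univ.filter fun i => ¬ x i = 1).card = 2 ^ m + 1 := by
    intro x
    rw [Finset.card_filter_add_card_filter_not, Finset.card_univ, Fintype.card_fin]
  have h2m : 2 ^ m = 2 * 2 ^ (m - 1) := by
    rw [← pow_succ']
    congr 1
    omega
  obtain ⟨x, hx, t, ht⟩ : ∃ x, ε x = a ∧ ∃ t, (Finset.univ.filter fun i => x i = 1).card = 2 * t := by
    rcases Nat.even_or_odd (Finset.univ.filter fun i => x₀ i = 1).card with h1 | h1
    · obtain ⟨t, ht⟩ := h1
      exact ⟨x₀, hx₀, t, by omega⟩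
    · refine ⟨x₀ + 1, ?_, ?_⟩
      · rw [hE.add, hE.one, mul_one, hx₀]
      · have e : (Finset.univ.filter fun i => (x₀ + 1) i = 1) = Finset.univ.filter fun i => ¬ x₀ i = 1 := by
          apply Finset.filter_congr
          intro i _
          rw [Pi.add_apply, Pi.one_apply]
          rcases (show ∀ y : ZMod 2, y = 0 ∨ y = 1 by decide) (x₀ i) with h2 | h2
          · rw [h2]
            decide
          · rw [h2]
            decide
        rw [e]
        obtain ⟨t, ht⟩ := h1
        have h3 := hcard x₀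
        exact ⟨2 ^ (m - 1) - t, by omega⟩
  obtain ⟨t', ht'⟩ : ∃ t', (Finset.univ.filter fun i => ¬ x i = 1).card = 2 * t' + 1 := by
    have h3 := hcard x
    exact ⟨2 ^ (m - 1) - t, by omega⟩
  obtain ⟨T', hT', hT'c⟩ := Finset.exists_subset_card_eq (s := Finset.univ.filter fun i => ¬ x i = 1)
    (n := 2 * t') (by omega)
  obtain ⟨p, hp, hpT⟩ := pairing _ t ht
  obtain ⟨q, hq, hqT⟩ := pairing _ t' hT'c
  have hp1 : ∀ b, x (p b) = 1 := fun b => (Finset.mem_filter.mp (hpT b)).2
  have hq1 : ∀ b, x (q b) = 0 := fun b => by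
    have h1 := (Finset.mem_filter.mp (hT' (hqT b))).2
    rcases (show ∀ y : ZMod 2, y = 0 ∨ y = 1 by decide) (x (q b)) with h2 | h2
    · exact h2
    · exact absurd h2 h1
  -- the pairs
  let f : Fin t ⊕ Fin t' → Fin (2 ^ m + 1) := fun b => b.elim (fun b => p (Sum.inl b)) (fun b => q (Sum.inl b))
  let f' : Fin t ⊕ Fin t' → Fin (2 ^ m + 1) := fun b => b.elim (fun b => p (Sum.inr b)) (fun b => q (Sum.inr b))
  have hne01 : (0 : ZMod 2) ≠ 1 := by decide
  have hff : ∀ b, f b ≠ f' b := by
    rintro (b | b) h1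
    · exact Sum.inl_ne_inr (hp h1)
    · exact Sum.inl_ne_inr (hq h1)
  have hxf : ∀ b, x (f b) = x (f' b) := by
    rintro (b | b)
    · exact (hp1 _).trans (hp1 _).symm
    · exact (hq1 _).trans (hq1 _).symm
  have hf : ∀ b b', (f b = f b' ∨ f b = f' b' ∨ f' b = f b' ∨ f' b = f' b') → b = b' := by
    rintro (b | b) (b' | b') h1
    · have h2 : b = b' := by
        rcases h1 with h1 | h1 | h1 | h1
        · exact Sum.inl_injective (hp h1)
        · exact absurd (hp h1) Sum.inl_ne_inr
        · exact absurd (hp h1).symm Sum.inl_ne_inr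
        · exact Sum.inr_injective (hp h1)
      rw [h2]
    · exfalso
      rcases h1 with h1 | h1 | h1 | h1 <;>
      · have h2 := congrArg x h1
        apply hne01
        first
          | exact ((hq1 _).symm.trans h2.symm).trans (hp1 _)
    · exfalso
      rcases h1 with h1 | h1 | h1 | h1 <;>
      · have h2 := congrArg x h1
        apply hne01
        first
          | exact ((hq1 _).symm.trans h2).trans (hp1 _)
    · have h2 : b = b' := by
        rcases h1 with h1 | h1 | h1 | h1
        · exact Sum.inl_injective (hq h1)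
        · exact absurd (hq h1) Sum.inl_ne_inr
        · exact absurd (hq h1).symm Sum.inl_ne_inr
        · exact Sum.inr_injective (hq h1)
      rw [h2]
  -- the centres
  have hcx : c = v * ε x := by rw [hva, hx]
  have h1 : ∀ b, ∀ y ∈ o2 (NN ε (f b) (f' b)), y * c * y⁻¹ = c := by
    intro b
    rw [hcx]
    exact (Sit.move_iff h hw (hff b) hv x).mpr (hxf b)
  have hco : ∀ a ∈ zl (S : Subgroup G) P, ∀ b ∈ zl (S : Subgroup G) P, a * b = b * a :=
    fun a ha b hb => h.V_comm ha hb
  have hsq : ∀ a ∈ zl (S : Subgroup G) P, a * a = 1 := fun a ha => by rw [← pow_two]; exact h.V_sq ha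
  have h2 : ∀ b, ∀ y ∈ o2 (centralizer ({c} : Set G)), y * rr ε (f b) (f' b) * y⁻¹ = rr ε (f b) (f' b) :=
    fun b => hc.symm (Sit.tr h hw (hff b)) hco hsq (h1 b)
  have h3 : ∀ b b', ∀ y ∈ o2 (NN ε (f b) (f' b)), y * rr ε (f b') (f' b') * y⁻¹ = rr ε (f b') (f' b') := by
    intro b b' y hy
    by_cases hbb : b = b'
    · subst hbb
      have h4 : y * rr ε (f b) (f' b) = rr ε (f b) (f' b) * y := mem_centralizer_singleton_iff.mp (o2_le _ hy)
      rw [h4, mul_inv_cancel_right]
    · rcases h.acts (hff b) hy with h4 | h4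
      · rw [rr_conj h4]
        rfl
      · rw [rr_conj h4, Equiv.swap_apply_of_ne_of_ne, Equiv.swap_apply_of_ne_of_ne]
        · exact fun h5 => hbb (hf _ _ (Or.inr (Or.inl h5.symm)))
        · exact fun h5 => hbb (hf _ _ (Or.inr (Or.inr (Or.inr h5.symm))))
        · exact fun h5 => hbb (hf _ _ (Or.inl h5.symm))
        · exact fun h5 => hbb (hf _ _ (Or.inr (Or.inr (Or.inl h5.symm))))
  let F : Option (Fin t ⊕ Fin t') → G := fun b => b.elim c fun b => rr ε (f b) (f' b)
  have h4 := Sit.count h F (by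
    rintro (_ | b) (_ | b') hbb
    · rfl
    · exact absurd hbb (hne _ _ (hff b'))
    · exact absurd hbb.symm (hne _ _ (hff b))
    · have h5 : rr ε (f b) (f' b) = rr ε (f b') (f' b') := hbb
      rcases pair_eq hE (Sit.five h) (hff b) h5 with h6 | h6
      · exact congrArg some (hf b b' (Or.inl h6.1.symm))
      · exact congrArg some (hf b b' (Or.inr (Or.inr (Or.inl h6.1.symm)))))
    (by
      rintro (_ | b)
      · exact hc
      · exact Sit.tr h hw (hff b))
    (by
      rintro (_ | b) (_ | b') y hy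
      · have h5 : y * c = c * y := mem_centralizer_singleton_iff.mp (o2_le _ hy)
        change y * c * y⁻¹ = c
        rw [h5, mul_inv_cancel_right]
      · exact h2 b' y hy
      · exact h1 b y hy
      · exact h3 b b' y hy)
  rw [Fintype.card_option, Fintype.card_sum, Fintype.card_fin, Fintype.card_fin] at h4
  have h5 := hcard x
  omega

/-- **`N_G(V)` maps pairs to pairs.** -/
theorem Sit.duad (h : Sit S P m A ε) (hw : Mov ε) {g : G}
    (hg : g ∈ normalizer (zl (S : Subgroup G) P : Set G)) {i j : Fin (2 ^ m + 1)} (hij : i ≠ j) :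
    ∃ k l, k ≠ l ∧ g * rr ε i j * g⁻¹ = rr ε k l :=
  Sit.pair_of_tr h hw ((Sit.tr h hw hij).conj hg)

omit [Finite G] in
/-- The points lie in the subgroup generated by the pairs. -/
theorem zz_mem_closure {n : ℕ} {V L : Subgroup G} {δ : (Fin n → ZMod 2) → G} (hE : EvenSet n V L δ)
    (hn : n % 2 = 1) (h3 : 3 ≤ n) (i : Fin n) {D : Subgroup G} (hD : ∀ k l, rr δ k l ∈ D) : zz δ i ∈ D := by
  obtain ⟨j, hj⟩ : ∃ j : Fin n, j ≠ i := by
    by_contra hno
    push Not at hno
    have h5 := Finset.card_le_card (fun x _ => Finset.mem_singleton.mpr (hno x) :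
      (Finset.univ : Finset (Fin n)) ⊆ {i})
    rw [Finset.card_univ, Fintype.card_fin, Finset.card_singleton] at h5
    omega
  have h1 := compl_rr hE hj (fun t x => (t % 2 = 0 → x ∈ D) ∧ (t % 2 = 1 → zz δ i * x ∈ D))
    ⟨fun _ => one_mem _, fun h0 => by simp at h0⟩
    (by
      rintro k - - t x ⟨ha, hb⟩
      constructor
      · intro ht
        have h2 := mul_mem (hD k i) (hb (by omega))
        have e : rr δ k i * (zz δ i * x) = zz δ k * x := by
          unfold rr
          calc zz δ k * zz δ i * (zz δ i * x) = zz δ k * (zz δ i * zz δ i) * x := by group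
            _ = _ := by rw [zz_sq hE, mul_one]
        rwa [e] at h2
      · intro ht
        have h2 := mul_mem (hD i k) (ha (by omega))
        rwa [rr, mul_assoc] at h2)
  have h2 := h1.2 (by omega)
  have h3 := mul_mem h2 (inv_mem (hD j i))
  rwa [mul_inv_cancel_right] at h3

/-- **`N_G(V)` permutes the letters.** -/
theorem Sit.exists_perm (h : Sit S P m A ε) (hw : Mov ε) {g : G}
    (hg : g ∈ normalizer (zl (S : Subgroup G) P : Set G)) : ∃ π : Equiv.Perm (Fin (2 ^ m + 1)), Acts ε g π := by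
  classical
  have hE := h.split.even
  have hodd : (2 ^ m + 1) % 2 = 1 := by
    have hm := h.m2
    have : 2 ^ m = 2 * 2 ^ (m - 1) := by
      rw [← pow_succ']
      congr 1
      omega
    omega
  -- `g` normalises `A`
  have hgA : ∀ a ∈ A, g * a * g⁻¹ ∈ A := by
    have h1 : ∀ i, g * zz ε i * g⁻¹ ∈ A := fun i => by
      have h2 : zz ε i ∈ A.comap (MulAut.conj g).toMonoidHom :=
        zz_mem_closure hE hodd h.three i fun k l => by
          change g * rr ε k l * g⁻¹ ∈ A
          by_cases hkl : k = l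
          · subst hkl
            have e : rr ε k k = 1 := zz_sq hE k
            rw [e, mul_one, mul_inv_cancel]
            exact one_mem _
          · obtain ⟨k', l', -, h3⟩ := Sit.duad h hw hg hkl
            rw [h3]
            exact rr_mem hE _ _
      exact h2
    intro a ha
    obtain ⟨x, rfl⟩ := hE.surj a ha
    have h2 : ∀ s : Finset (Fin (2 ^ m + 1)), g * ε (∑ i ∈ s, Pi.single i (x i)) * g⁻¹ ∈ A := by
      intro s
      induction s using Finset.induction_on with
      | empty =>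
        rw [Finset.sum_empty, hE.zero, mul_one, mul_inv_cancel]
        exact one_mem _
      | insert k s hk ih =>
        rw [Finset.sum_insert hk, hE.add]
        have e : g * (ε (Pi.single k (x k)) * ε (∑ i ∈ s, Pi.single i (x i))) * g⁻¹ =
            (g * ε (Pi.single k (x k)) * g⁻¹) * (g * ε (∑ i ∈ s, Pi.single i (x i)) * g⁻¹) := by group
        rw [e]
        refine mul_mem ?_ ih
        rcases (show ∀ y : ZMod 2, y = 0 ∨ y = 1 by decide) (x k) with h3 | h3
        · rw [h3, Pi.single_zero, hE.zero, mul_one, mul_inv_cancel]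
          exact one_mem _
        · rw [h3]
          exact h1 k
    have h3 := h2 Finset.univ
    rwa [Finset.univ_sum_single] at h3
  -- the image of a point
  have key : ∀ i, ∃ j, g * zz ε i * g⁻¹ = zz ε j := by
    intro i
    obtain ⟨y, hy⟩ := hE.surj _ (hgA _ (zz_mem hE i))
    -- pairs crossing `y` come from pairs through `i`
    have hcross : ∀ a b, y a ≠ y b → ∃ c, c ≠ i ∧ g⁻¹ * rr ε a b * g = rr ε i c := by
      intro a b hab
      have hne : a ≠ b := fun h1 => hab (by rw [h1])
      obtain ⟨k, l, hkl, h1⟩ := Sit.duad h hw (inv_mem hg) hne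
      rw [inv_inv] at h1
      have h2 : (Pi.single i 1 : Fin (2 ^ m + 1) → ZMod 2) k ≠ (Pi.single i 1 : Fin (2 ^ m + 1) → ZMod 2) l := by
        intro h3
        apply hab
        rw [← Sit.move_iff h hw hne (one_mem (cv (S : Subgroup G) P)) y]
        have h4 := (Sit.move_iff h hw hkl (one_mem (cv (S : Subgroup G) P)) (Pi.single i 1)).mpr h3
        intro z hz
        rw [one_mul, hy]
        have h5 : g⁻¹ * z * g ∈ o2 (NN ε k l) := by
          have h6 := push (g := g⁻¹) hz
          rw [inv_inv, h1] at h6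
          exact h6
        have h6 := h4 _ h5
        rw [one_mul] at h6
        calc z * (g * zz ε i * g⁻¹) * z⁻¹ = g * (g⁻¹ * z * g * zz ε i * (g⁻¹ * z * g)⁻¹) * g⁻¹ := by group
          _ = g * zz ε i * g⁻¹ := congrArg (fun t => g * t * g⁻¹) h6
      by_cases hk : k = i
      · subst hk
        exact ⟨l, hkl.symm, h1⟩
      · by_cases hl : l = i
        · subst hl
          exact ⟨k, hk, by rw [h1, rr_symm hE]⟩
        · exfalso
          apply h2
          rw [Pi.single_eq_of_ne hk, Pi.single_eq_of_ne hl]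
    -- no two disjoint crossing pairs
    have hno : ∀ a b c d, a ≠ c → a ≠ d → b ≠ c → b ≠ d → y a ≠ y b → y c ≠ y d → False := by
      intro a b c d hac had hbc hbd hab hcd
      obtain ⟨k, hk, h1⟩ := hcross a b hab
      obtain ⟨l, hl, h2⟩ := hcross c d hcd
      have hcd' : c ≠ d := fun h3 => hcd (by rw [h3])
      have hab' : a ≠ b := fun h3 => hab (by rw [h3])
      -- `o2 (NN c d)` centralises `rr a b`
      have h3 : ∀ z ∈ o2 (NN ε c d), z * rr ε a b * z⁻¹ = rr ε a b := by
        intro z hz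
        rcases h.acts hcd' hz with h4 | h4
        · rw [rr_conj h4]
          rfl
        · rw [rr_conj h4, Equiv.swap_apply_of_ne_of_ne hac had, Equiv.swap_apply_of_ne_of_ne hbc hbd]
      -- so `o2 (NN i l)` centralises `rr i k`
      have h4 : ∀ z ∈ o2 (NN ε i l), z * rr ε i k * z⁻¹ = rr ε i k := by
        intro z hz
        have h5 : g * z * g⁻¹ ∈ o2 (NN ε c d) := by
          have h6 := push (g := g) hz
          have e : g * rr ε i l * g⁻¹ = rr ε c d := by
            rw [← h2]
            group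
          rw [e] at h6
          exact h6
        have h6 := h3 _ h5
        have e : rr ε a b = g * rr ε i k * g⁻¹ := by
          rw [← h1]
          group
        rw [e] at h6
        have h7 : g * (z * rr ε i k * z⁻¹) * g⁻¹ = g * rr ε i k * g⁻¹ := by
          calc g * (z * rr ε i k * z⁻¹) * g⁻¹ = g * z * g⁻¹ * (g * rr ε i k * g⁻¹) * (g * z * g⁻¹)⁻¹ := by group
            _ = _ := h6
        exact mul_left_cancel (mul_right_cancel h7)
      have h5 := (Sit.move_iff h hw (Ne.symm hl) (one_mem (cv (S : Subgroup G) P))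
        (Pi.single i 1 + Pi.single k 1)).mp (by
          intro z hz
          rw [one_mul, hE.add]
          exact h4 z hz)
      by_cases hkl : k = l
      · -- then the two pairs are equal
        subst hkl
        have h6 : rr ε a b = rr ε c d := by
          have h7 := h1.trans h2.symm
          exact mul_left_cancel (mul_right_cancel h7)
        rcases pair_eq hE (Sit.five h) hab' h6 with h7 | h7
        · exact hac h7.1.symm
        · exact hbc h7.1.symm
      · rw [Pi.add_apply, Pi.add_apply, Pi.single_eq_same, Pi.single_eq_of_ne (Ne.symm hk),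
          Pi.single_eq_of_ne hl, Pi.single_eq_of_ne (Ne.symm hkl)] at h5
        exact absurd h5 (by decide)
    -- `y` is not constant
    obtain ⟨a, b, hab⟩ : ∃ a b, y a ≠ y b := by
      by_contra hall
      push Not at hall
      have h1 : y = 0 ∨ y = 1 := by
        rcases (show ∀ t : ZMod 2, t = 0 ∨ t = 1 by decide) (y i) with h2 | h2
        · left
          funext k
          rw [hall k i, h2]
          rfl
        · right
          funext k
          rw [hall k i, h2]
          rfl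
      have h2 := (hE.ker y).mpr h1
      rw [hy] at h2
      have h3 : zz ε i = 1 := by
        have : g⁻¹ * (g * zz ε i * g⁻¹) * g = 1 := by rw [h2]; group
        calc zz ε i = g⁻¹ * (g * zz ε i * g⁻¹) * g := by group
          _ = 1 := this
      exact hE.single_ne_one h.three i h3
    -- all other letters have the value of `a`, or all have the value of `b`
    have hval : ∀ c, y c = y a ∨ y c = y b := by
      intro c
      rcases (show ∀ t : ZMod 2, t = 0 ∨ t = 1 by decide) (y a) with h1 | h1 <;>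
      rcases (show ∀ t : ZMod 2, t = 0 ∨ t = 1 by decide) (y b) with h2 | h2 <;>
      rcases (show ∀ t : ZMod 2, t = 0 ∨ t = 1 by decide) (y c) with h3 | h3 <;>
      rw [h1, h2] at hab <;> rw [h1, h2, h3] <;> simp at hab ⊢
    have hdone : ∀ a b, y a ≠ y b → (∀ c, c ≠ a → y c = y b) → g * zz ε i * g⁻¹ = zz ε a := by
      intro a b hab hc
      rw [← hy]
      unfold zz
      rw [hE.eq_iff]
      rcases (show ∀ t : ZMod 2, t = 0 ∨ t = 1 by decide) (y b) with h1 | h1
      · left
        funext c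
        by_cases hca : c = a
        · subst hca
          rw [Pi.single_eq_same]
          rcases (show ∀ t : ZMod 2, t = 0 ∨ t = 1 by decide) (y c) with h2 | h2
          · exact absurd (h2.trans h1.symm) hab
          · exact h2
        · rw [hc c hca, h1, Pi.single_eq_of_ne hca]
      · right
        funext c
        rw [Pi.add_apply, Pi.one_apply]
        by_cases hca : c = a
        · subst hca
          rw [Pi.single_eq_same]
          rcases (show ∀ t : ZMod 2, t = 0 ∨ t = 1 by decide) (y c) with h2 | h2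
          · rw [h2]
            decide
          · exact absurd (h2.trans h1.symm) hab
        · rw [hc c hca, h1, Pi.single_eq_of_ne hca]
          decide
    by_cases hA : ∀ c, c ≠ a → y c = y b
    · exact ⟨a, hdone a b hab hA⟩
    · push Not at hA
      obtain ⟨c, hca, hcb⟩ := hA
      have hcya : y c = y a := (hval c).resolve_right hcb
      refine ⟨b, hdone b a hab.symm fun d hdb => ?_⟩
      by_contra hda
      have hdyb : y d = y b := (hval d).resolve_left hda
      -- `a, c` have one value, `b, d` the other one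
      refine hno a b c d (Ne.symm hca) ?_ ?_ (Ne.symm hdb) hab ?_
      · rintro rfl
        exact hda rfl
      · rintro rfl
        exact hcb rfl
      · rw [hcya, hdyb]
        exact hab
  choose π hπ using key
  have hinj : Function.Injective π := by
    intro i j hij
    refine hE.single_inj h.three ?_
    have h1 : g * zz ε i * g⁻¹ = g * zz ε j * g⁻¹ := by rw [hπ, hπ, hij]
    exact mul_left_cancel (mul_right_cancel h1)
  let σ : Equiv.Perm (Fin (2 ^ m + 1)) := Equiv.ofBijective π (Finite.injective_iff_bijective.mp hinj)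
  refine ⟨σ, fun x => ?_⟩
  have h2 : ∀ s : Finset (Fin (2 ^ m + 1)), g * ε (∑ i ∈ s, Pi.single i (x i)) * g⁻¹ =
      ε (∑ i ∈ s, Pi.single (σ i) (x i)) := by
    intro s
    induction s using Finset.induction_on with
    | empty => rw [Finset.sum_empty, Finset.sum_empty, hE.zero, mul_one, mul_inv_cancel]
    | insert k s hk ih =>
      rw [Finset.sum_insert hk, Finset.sum_insert hk, hE.add, hE.add, ← ih]
      have e : g * ε (Pi.single k (x k)) * g⁻¹ = ε (Pi.single (σ k) (x k)) := by
        rcases (show ∀ y : ZMod 2, y = 0 ∨ y = 1 by decide) (x k) with h3 | h3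
        · rw [h3, Pi.single_zero, Pi.single_zero, hE.zero, mul_one, mul_inv_cancel]
        · rw [h3]
          exact hπ k
      rw [← e]
      group
  have h3 := h2 Finset.univ
  rw [Finset.univ_sum_single] at h3
  rw [h3]
  congr 1
  have h4 : ∑ i, Pi.single (σ i) (x i) = ∑ i, Pi.single i ((x ∘ σ.symm) i) := by
    rw [← Equiv.sum_comp σ (fun i => (Pi.single i ((x ∘ σ.symm) i) : Fin (2 ^ m + 1) → ZMod 2))]
    apply Finset.sum_congr rfl
    intro i _
    simp [Function.comp]
  rw [h4, Finset.univ_sum_single]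

/-- `N_G(V)` normalises `A`. -/
theorem Sit.norm_A (h : Sit S P m A ε) (hw : Mov ε) :
    normalizer (zl (S : Subgroup G) P : Set G) ≤ normalizer (A : Set G) := by
  intro g hg
  obtain ⟨π, hπ⟩ := Sit.exists_perm h hw hg
  exact acts_norm h.split.even hπ

/-- `N_G(V)` normalises `V₀`. -/
theorem Sit.norm_cv (h : Sit S P m A ε) (hw : Mov ε) :
    normalizer (zl (S : Subgroup G) P : Set G) ≤ normalizer (cv (S : Subgroup G) P : Set G) := by
  have hE := h.split.even
  have key : ∀ g ∈ normalizer (zl (S : Subgroup G) P : Set G), ∀ v ∈ cv (S : Subgroup G) P,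
      g * v * g⁻¹ ∈ cv (S : Subgroup G) P := by
    intro g hg v hv
    obtain ⟨c, hc, a, ha, h1⟩ := h.mul_eq (norm_conj hg (h.V0_le hv))
    obtain ⟨x, rfl⟩ := hE.surj a ha
    have h2 : ∀ k l, x k = x l := by
      intro k l
      by_cases hkl : k = l
      · rw [hkl]
      refine (Sit.move_iff h hw hkl hc x).mp fun y hy => ?_
      rw [← h1]
      obtain ⟨k', l', hkl', h3⟩ := Sit.duad h hw (inv_mem hg) hkl
      rw [inv_inv] at h3
      have h4 : g⁻¹ * y * g ∈ o2 (NN ε k' l') := by
        have h6 := push (g := g⁻¹) hy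
        rw [inv_inv, h3] at h6
        exact h6
      have h5 := h.comm_V0 hkl' h4 hv
      calc y * (g * v * g⁻¹) * y⁻¹ = g * (g⁻¹ * y * g * v) * (g⁻¹ * y * g)⁻¹ * g⁻¹ := by group
        _ = g * (v * (g⁻¹ * y * g)) * (g⁻¹ * y * g)⁻¹ * g⁻¹ := by rw [h5]
        _ = g * v * g⁻¹ := by group
    have h3 : ε x = 1 := by
      rw [hE.ker]
      rcases (show ∀ t : ZMod 2, t = 0 ∨ t = 1 by decide) (x 0) with h4 | h4
      · left
        funext k
        rw [h2 k 0, h4]
        rfl
      · right
        funext k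
        rw [h2 k 0, h4]
        rfl
    rw [h1, h3, mul_one]
    exact hc
  intro g hg
  rw [mem_normalizer_iff]
  refine fun v => ⟨key g hg v, fun hv => ?_⟩
  have h1 := key g⁻¹ (inv_mem hg) _ hv
  have h2 : g⁻¹ * (g * v * g⁻¹) * g⁻¹⁻¹ = v := by group
  rwa [h2] at h1

/-- `N_G(V)` induces on `V₀` a group of odd order. -/
theorem Sit.cent_of_sq (h : Sit S P m A ε) (hw : Mov ε) {g : G}
    (hg : g ∈ normalizer (zl (S : Subgroup G) P : Set G))
    (h2 : ∀ v ∈ cv (S : Subgroup G) P, g ^ 2 * v = v * g ^ 2) : ∀ v ∈ cv (S : Subgroup G) P, g * v = v * g := by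
  have hf : Fact (Nat.Prime 2) := ⟨Nat.prime_two⟩
  let L : Subgroup G := normalizer (zl (S : Subgroup G) P : Set G)
  let K : Subgroup G := L ⊓ centralizer (cv (S : Subgroup G) P : Set G)
  have hSL : (S : Subgroup G) ≤ L := Sit.S_le h
  have hSK : (S : Subgroup G) ≤ K := le_inf hSL fun s hs => mem_centralizer_iff.mpr fun v hv =>
    (h.V0_comm hv (h.par.le hs)).symm
  have hn : L ≤ normalizer (K : Set G) := by
    have key : ∀ a ∈ L, ∀ x ∈ K, a * x * a⁻¹ ∈ K := by
      intro a ha x hx
      refine ⟨L.mul_mem (L.mul_mem ha hx.1) (L.inv_mem ha), mem_centralizer_iff.mpr fun v hv => ?_⟩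
      have h3 := norm_conj' (Sit.norm_cv h hw ha) hv
      have h4 : a⁻¹ * v * a * x = x * (a⁻¹ * v * a) := mem_centralizer_iff.mp hx.2 _ h3
      calc v * (a * x * a⁻¹) = a * (a⁻¹ * v * a * x) * a⁻¹ := by group
        _ = a * (x * (a⁻¹ * v * a)) * a⁻¹ := by rw [h4]
        _ = a * x * a⁻¹ * v := by group
    intro a ha
    rw [mem_normalizer_iff]
    refine fun v => ⟨key a ha v, fun hv => ?_⟩
    have h1 := key a⁻¹ (inv_mem ha) _ hv
    have h2 : a⁻¹ * (a * v * a⁻¹) * a⁻¹⁻¹ = v := by group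
    rwa [h2] at h1
  have hN : (K.subgroupOf L).Normal := normal_subgroupOf_of_le_normalizer hn
  have hodd : ¬ 2 ∣ (K.subgroupOf L).index := by
    intro h3
    exact MinSimple.Basic.not_dvd_relIndex S hSL (h3.trans (relIndex_dvd_of_le_left L hSK))
  have h3 : (⟨g, hg⟩ : L) ^ (K.subgroupOf L).index ∈ K.subgroupOf L := pow_index_mem (K.subgroupOf L) _
  have h4 : (⟨g, hg⟩ : L) ^ 2 ∈ K.subgroupOf L := by
    rw [mem_subgroupOf]
    refine ⟨((⟨g, hg⟩ : L) ^ 2).2, mem_centralizer_iff.mpr fun v hv => (h2 v hv).symm⟩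
  have h5 : (⟨g, hg⟩ : L) ∈ K.subgroupOf L := by
    obtain ⟨t, ht⟩ : ∃ t, (K.subgroupOf L).index = 2 * t + 1 := ⟨(K.subgroupOf L).index / 2, by omega⟩
    rw [ht, pow_succ, pow_mul] at h3
    exact (Subgroup.mul_mem_cancel_left _ (pow_mem h4 t)).mp h3
  intro v hv
  exact (mem_centralizer_iff.mp (mem_subgroupOf.mp h5).2 v hv).symm

/-- **Every transvection of `N_G(V)` on `V` is a transposition.** -/
theorem Sit.transv (h : Sit S P m A ε) (hw : Mov ε) {g c : G}
    (hg : g ∈ normalizer (zl (S : Subgroup G) P : Set G))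
    (hc : ∀ v ∈ zl (S : Subgroup G) P, g * v * g⁻¹ = v ∨ g * v * g⁻¹ = v * c)
    (hm : ∃ v ∈ zl (S : Subgroup G) P, g * v * g⁻¹ ≠ v) :
    ∃ i j, i ≠ j ∧ c = rr ε i j ∧ Acts ε g (Equiv.swap i j) := by
  obtain ⟨π, hπ⟩ := Sit.exists_perm h hw hg
  refine Sit.of_acts h hπ ?_ hc hm
  obtain ⟨v, hv, hvne⟩ := hm
  have hcV : c ∈ zl (S : Subgroup G) P := by
    have h1 := (hc v hv).resolve_left hvne
    have h2 := norm_conj hg hv
    rw [h1] at h2
    have h3 := mul_mem (inv_mem hv) h2
    rwa [inv_mul_cancel_left] at h3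
  have hcc : c * c = 1 := by
    rw [← pow_two]
    exact h.V_sq hcV
  have hgc : g * c * g⁻¹ = c := by
    rcases hc c hcV with h1 | h1
    · exact h1
    · rw [hcc] at h1
      have h2 : c = 1 := by
        calc c = g⁻¹ * (g * c * g⁻¹) * g := by group
          _ = 1 := by rw [h1]; group
      rw [h2]
      group
  refine Sit.cent_of_sq h hw hg fun w hw' => ?_
  have hwV := h.V0_le hw'
  have h1 : g ^ 2 * w * (g ^ 2)⁻¹ = w := by
    have e : g ^ 2 * w * (g ^ 2)⁻¹ = g * (g * w * g⁻¹) * g⁻¹ := by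
      rw [pow_two]
      group
    rw [e]
    rcases hc w hwV with h2 | h2
    · rw [h2, h2]
    · rw [h2]
      calc g * (w * c) * g⁻¹ = (g * w * g⁻¹) * (g * c * g⁻¹) := by group
        _ = w * c * c := by rw [h2, hgc]
        _ = w := by rw [mul_assoc, hcc, mul_one]
  rw [mul_inv_eq_iff_eq_mul] at h1
  exact h1

end Cfsg.Agent.Omega.F4Leaf.Exit.Dua

end

section


/-!
# LeafF4: centres of transvections on a subgroup `A ≤ V₁ ≤ V` (helper758, #21183; generalises helper450's `Exit.Dua`)

* `tr` : the pairs are centres on `V₁`;  `of_S` : a transvection of `S` on `V₁` is a transposition;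
* `count`, **`pair_of_tr`** : `Tr V₁ c` implies that `c` is a pair.
-/

set_option autoImplicit false
set_option linter.dupNamespace false

namespace Cfsg.Agent.Omega.F4Leaf.Syl.TrV

open Subgroup Pointwise Cfsg Cfsg.Agent Cfsg.Agent.Omega.MinPar
open Cfsg.Agent.ZN (o2 zc zl)
open Cfsg.Agent.Omega.FrameFF (cv Single Free)
open Cfsg.Agent.Omega.S5.Def Cfsg.Agent.Omega.S5.Syl Cfsg.Agent.Omega.F4Leaf.Def
open Cfsg.Agent.Omega.NSix.Base Cfsg.Agent.Omega.NSix.Basic Cfsg.Agent.Omega.F4Leaf.Pos
open Cfsg.Agent.Omega.F4Leaf.Exit.Tr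
open Cfsg.Agent.Omega.F4Leaf.Exit.Dua
open Cfsg.Agent.MinSimple.VModule (o2_isPGroup o2_le le_o2 le_normalizer_o2 le_normalizer_zl)

universe u

variable {G : Type u} [Group G] [Finite G] {S : Sylow 2 G} {P : Subgroup G} {m : ℕ} {A : Subgroup G}
  {ε : (Fin (2 ^ m + 1) → ZMod 2) → G}

/-- `P` normalises `V₁`. -/
theorem P_le (h : Sit S P m A ε) {V₁ : Subgroup G} (hA : A ≤ V₁) (hV : V₁ ≤ zl (S : Subgroup G) P) :
    P ≤ normalizer (V₁ : Set G) := by
  have key : ∀ g ∈ P, ∀ x ∈ V₁, g * x * g⁻¹ ∈ V₁ := by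
    intro g hg x hx
    obtain ⟨v, hv, a, ha, rfl⟩ := h.mul_eq (hV hx)
    have hv1 : v ∈ V₁ := by
      have h1 := mul_mem hx (inv_mem (hA ha))
      rwa [mul_inv_cancel_right] at h1
    have h2 : g * a * g⁻¹ ∈ A := norm_conj (h.split.even.le_normalizer hg) ha
    have e : g * (v * a) * g⁻¹ = v * (g * a * g⁻¹) := by
      calc g * (v * a) * g⁻¹ = g * v * a * g⁻¹ := by group
        _ = v * g * a * g⁻¹ := by rw [h.V0_comm hv hg]
        _ = _ := by group
    rw [e]
    exact mul_mem hv1 (hA h2)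
  intro g hg
  rw [mem_normalizer_iff]
  refine fun x => ⟨key g hg x, fun hx => ?_⟩
  have h1 := key g⁻¹ (inv_mem hg) _ hx
  have e : g⁻¹ * (g * x * g⁻¹) * g⁻¹⁻¹ = x := by group
  rwa [e] at h1

theorem S_le (h : Sit S P m A ε) {V₁ : Subgroup G} (hA : A ≤ V₁) (hV : V₁ ≤ zl (S : Subgroup G) P) :
    (S : Subgroup G) ≤ normalizer (V₁ : Set G) := h.par.le.trans (P_le h hA hV)

/-- The pairs are centres. -/
theorem tr (h : Sit S P m A ε) {V₁ : Subgroup G} (hA : A ≤ V₁) (hV : V₁ ≤ zl (S : Subgroup G) P) (hw : Mov ε)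
    {i j : Fin (2 ^ m + 1)} (hij : i ≠ j) : Tr V₁ (rr ε i j) where
  mem := hA (rr_mem h.split.even i j)
  norm := (h.o2_le_P hij).trans (P_le h hA hV)
  act _ hx _ hv := h.conj_V hij hx (hV hv)
  mov := by
    obtain ⟨w, hw1, hw2⟩ := hw i j hij
    refine ⟨w, hw1, zz ε i, hA (zz_mem h.split.even i), fun h1 => hij ?_⟩
    rw [zz_conj hw2, Equiv.swap_apply_left] at h1
    exact (h.split.even.single_inj h.three h1).symm
  uni x hx y hy h1 h2 v hv := by
    obtain ⟨a, ha, ha'⟩ := h1
    obtain ⟨b, hb, hb'⟩ := h2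
    exact (Exit.Dua.Sit.tr h hw hij).uni x hx y hy ⟨a, hV ha, ha'⟩ ⟨b, hV hb, hb'⟩ v (hV hv)

/-- A transvection of `S` on `V₁` is a transposition. -/
theorem of_S (h : Sit S P m A ε) {V₁ : Subgroup G} (hA : A ≤ V₁) (hV : V₁ ≤ zl (S : Subgroup G) P) {x c : G}
    (hx : x ∈ (S : Subgroup G)) (hc : ∀ v ∈ V₁, x * v * x⁻¹ = v ∨ x * v * x⁻¹ = v * c)
    (hm : ∃ v ∈ V₁, x * v * x⁻¹ ≠ v) : ∃ i j, i ≠ j ∧ c = rr ε i j ∧ Acts ε x (Equiv.swap i j) := by
  refine Exit.Dua.Sit.of_S h hx (fun v hv => ?_) ?_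
  · obtain ⟨w, hw, a, ha, rfl⟩ := h.mul_eq hv
    have e : x * (w * a) * x⁻¹ = w * (x * a * x⁻¹) := by
      calc x * (w * a) * x⁻¹ = x * w * a * x⁻¹ := by group
        _ = w * x * a * x⁻¹ := by rw [h.V0_comm hw (h.par.le hx)]
        _ = _ := by group
    rw [e]
    rcases hc a (hA ha) with h1 | h1
    · left; rw [h1]
    · right; rw [h1, mul_assoc]
  · obtain ⟨v, hv, h1⟩ := hm
    exact ⟨v, hV hv, h1⟩

/-- **Commuting centres.** -/
theorem count (h : Sit S P m A ε) {V₁ : Subgroup G} (hA : A ≤ V₁) (hV : V₁ ≤ zl (S : Subgroup G) P) {ι : Type*} [Fintype ι] (F : ι → G) (hF : Function.Injective F)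
    (hT : ∀ a, Tr V₁ (F a))
    (hc : ∀ a b, ∀ x ∈ o2 (centralizer ({F a} : Set G)), x * F b * x⁻¹ = F b) :
    2 * Fintype.card ι ≤ 2 ^ m + 1 := by
  classical
  have hE := h.split.even
  have hcen : ∀ a b, o2 (centralizer ({F a} : Set G)) ≤ centralizer ({F b} : Set G) := by
    intro a b x hx
    rw [mem_centralizer_singleton_iff, ← mul_inv_eq_iff_eq_mul]
    exact hc a b x hx
  have hD : IsPGroup 2 ((⨆ a ∈ (Finset.univ : Finset ι), o2 (centralizer ({F a} : Set G)) : Subgroup G)) :=
    HOne.isPGroup_iSup _ _ (fun _ _ => o2_isPGroup _) fun a _ b _ => (hcen a b).trans (le_normalizer_o2 _)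
  have hDn : (⨆ a ∈ (Finset.univ : Finset ι), o2 (centralizer ({F a} : Set G)) : Subgroup G) ≤
      normalizer (V₁ : Set G) := iSup₂_le fun a _ => (hT a).norm
  obtain ⟨g, hg, hgD⟩ := exists_conj hDn S.isPGroup' hD
    (MinSimple.Basic.not_dvd_relIndex S (S_le h hA hV))
  have hmem : ∀ a, ∀ x ∈ o2 (centralizer ({F a} : Set G)), g * x * g⁻¹ ∈ (S : Subgroup G) := fun a x hx =>
    hgD x ((le_iSup₂ (f := fun a (_ : a ∈ (Finset.univ : Finset ι)) => o2 (centralizer ({F a} : Set G))) a
      (Finset.mem_univ a)) hx)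
  have key : ∀ a, ∃ i j, i ≠ j ∧ g * F a * g⁻¹ = rr ε i j ∧
      ∃ x ∈ o2 (centralizer ({F a} : Set G)), Acts ε (g * x * g⁻¹) (Equiv.swap i j) := by
    intro a
    obtain ⟨x, hx, v, hv, hne⟩ := (hT a).mov
    have hT' := (hT a).conj hg
    obtain ⟨i, j, h1, h2, h3⟩ := of_S h hA hV (hmem a x hx) (hT'.act _ (push hx))
      ⟨g * v * g⁻¹, norm_conj hg hv, fun h2 => hne (by
        have e : g * x * g⁻¹ * (g * v * g⁻¹) * (g * x * g⁻¹)⁻¹ = g * (x * v * x⁻¹) * g⁻¹ := by group
        rw [e] at h2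
        exact mul_left_cancel (mul_right_cancel h2))⟩
    exact ⟨i, j, h1, h2, x, hx, h3⟩
  choose p q hpq hr x hx hs using key
  -- the pairs are disjoint
  have hdis : ∀ a b, (p a = p b ∨ p a = q b ∨ q a = p b ∨ q a = q b) → a = b := by
    intro a b hab
    have h1 : g * x a * g⁻¹ * rr ε (p b) (q b) * (g * x a * g⁻¹)⁻¹ = rr ε (p b) (q b) := by
      rw [← hr b]
      have e : g * x a * g⁻¹ * (g * F b * g⁻¹) * (g * x a * g⁻¹)⁻¹ = g * (x a * F b * (x a)⁻¹) * g⁻¹ := by group
      rw [e, hc a b _ (hx a)]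
    rw [rr_conj (hs a)] at h1
    have h2 := pair_eq hE (Sit.five h) (i := p b) (j := q b) (hpq b) h1.symm
    have h3 : (p a = p b ∧ q a = q b) ∨ (p a = q b ∧ q a = p b) := by
      rcases hab with h4 | h4 | h4 | h4
      · left
        refine ⟨h4, ?_⟩
        rw [← h4, Equiv.swap_apply_left] at h2
        rcases h2 with h5 | h5
        · exact absurd h5.1.symm (hpq a)
        · exact h5.1
      · right
        refine ⟨h4, ?_⟩
        rw [← h4, Equiv.swap_apply_left] at h2
        rcases h2 with h5 | h5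
        · exact absurd h5.2.symm (hpq a)
        · exact h5.2
      · right
        refine ⟨?_, h4⟩
        rw [← h4, Equiv.swap_apply_right] at h2
        rcases h2 with h5 | h5
        · exact absurd h5.1 (hpq a)
        · exact h5.1
      · left
        refine ⟨?_, h4⟩
        rw [← h4, Equiv.swap_apply_right] at h2
        rcases h2 with h5 | h5
        · exact absurd h5.2 (hpq a)
        · exact h5.2
    apply hF
    have h4 : g * F a * g⁻¹ = g * F b * g⁻¹ := by
      rw [hr a, hr b]
      rcases h3 with h5 | h5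
      · rw [h5.1, h5.2]
      · rw [h5.1, h5.2, rr_symm hE]
    exact mul_left_cancel (mul_right_cancel h4)
  have hinj : Function.Injective (Sum.elim p q : ι ⊕ ι → Fin (2 ^ m + 1)) := by
    rintro (a | a) (b | b) hab
    · exact congrArg Sum.inl (hdis a b (Or.inl hab))
    · exfalso
      have h1 := hdis a b (Or.inr (Or.inl hab))
      subst h1
      exact hpq a hab
    · exfalso
      have h1 := hdis a b (Or.inr (Or.inr (Or.inl hab)))
      subst h1
      exact hpq a hab.symm
    · exact congrArg Sum.inr (hdis a b (Or.inr (Or.inr (Or.inr hab))))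
  have h1 := Fintype.card_le_of_injective _ hinj
  rw [Fintype.card_sum, Fintype.card_fin] at h1
  omega

/-- **A centre is a pair.** -/
theorem pair_of_tr (h : Sit S P m A ε) {V₁ : Subgroup G} (hA : A ≤ V₁) (hV : V₁ ≤ zl (S : Subgroup G) P) (hw : Mov ε) {c : G}
    (hc : Tr V₁ c) :
    ∃ k l, k ≠ l ∧ c = rr ε k l := by
  classical
  have hE := h.split.even
  have hm := h.m2
  by_contra hne
  push Not at hne
  -- even representative
  obtain ⟨v, hv, a, ha, hva⟩ := h.mul_eq (hV hc.mem)
  obtain ⟨x₀, hx₀⟩ := hE.surj a ha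
  have hcard : ∀ x : Fin (2 ^ m + 1) → ZMod 2, (Finset.univ.filter fun i => x i = 1).card +
      (Finset.univ.filter fun i => ¬ x i = 1).card = 2 ^ m + 1 := by
    intro x
    rw [Finset.card_filter_add_card_filter_not, Finset.card_univ, Fintype.card_fin]
  have h2m : 2 ^ m = 2 * 2 ^ (m - 1) := by
    rw [← pow_succ']
    congr 1
    omega
  obtain ⟨x, hx, t, ht⟩ : ∃ x, ε x = a ∧ ∃ t, (Finset.univ.filter fun i => x i = 1).card = 2 * t := by
    rcases Nat.even_or_odd (Finset.univ.filter fun i => x₀ i = 1).card with h1 | h1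
    · obtain ⟨t, ht⟩ := h1
      exact ⟨x₀, hx₀, t, by omega⟩
    · refine ⟨x₀ + 1, ?_, ?_⟩
      · rw [hE.add, hE.one, mul_one, hx₀]
      · have e : (Finset.univ.filter fun i => (x₀ + 1) i = 1) = Finset.univ.filter fun i => ¬ x₀ i = 1 := by
          apply Finset.filter_congr
          intro i _
          rw [Pi.add_apply, Pi.one_apply]
          rcases (show ∀ y : ZMod 2, y = 0 ∨ y = 1 by decide) (x₀ i) with h2 | h2
          · rw [h2]
            decide
          · rw [h2]
            decide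
        rw [e]
        obtain ⟨t, ht⟩ := h1
        have h3 := hcard x₀
        exact ⟨2 ^ (m - 1) - t, by omega⟩
  obtain ⟨t', ht'⟩ : ∃ t', (Finset.univ.filter fun i => ¬ x i = 1).card = 2 * t' + 1 := by
    have h3 := hcard x
    exact ⟨2 ^ (m - 1) - t, by omega⟩
  obtain ⟨T', hT', hT'c⟩ := Finset.exists_subset_card_eq (s := Finset.univ.filter fun i => ¬ x i = 1)
    (n := 2 * t') (by omega)
  obtain ⟨p, hp, hpT⟩ := pairing _ t ht
  obtain ⟨q, hq, hqT⟩ := pairing _ t' hT'c
  have hp1 : ∀ b, x (p b) = 1 := fun b => (Finset.mem_filter.mp (hpT b)).2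
  have hq1 : ∀ b, x (q b) = 0 := fun b => by
    have h1 := (Finset.mem_filter.mp (hT' (hqT b))).2
    rcases (show ∀ y : ZMod 2, y = 0 ∨ y = 1 by decide) (x (q b)) with h2 | h2
    · exact h2
    · exact absurd h2 h1
  -- the pairs
  let f : Fin t ⊕ Fin t' → Fin (2 ^ m + 1) := fun b => b.elim (fun b => p (Sum.inl b)) (fun b => q (Sum.inl b))
  let f' : Fin t ⊕ Fin t' → Fin (2 ^ m + 1) := fun b => b.elim (fun b => p (Sum.inr b)) (fun b => q (Sum.inr b))
  have hne01 : (0 : ZMod 2) ≠ 1 := by decide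
  have hff : ∀ b, f b ≠ f' b := by
    rintro (b | b) h1
    · exact Sum.inl_ne_inr (hp h1)
    · exact Sum.inl_ne_inr (hq h1)
  have hxf : ∀ b, x (f b) = x (f' b) := by
    rintro (b | b)
    · exact (hp1 _).trans (hp1 _).symm
    · exact (hq1 _).trans (hq1 _).symm
  have hf : ∀ b b', (f b = f b' ∨ f b = f' b' ∨ f' b = f b' ∨ f' b = f' b') → b = b' := by
    rintro (b | b) (b' | b') h1
    · have h2 : b = b' := by
        rcases h1 with h1 | h1 | h1 | h1
        · exact Sum.inl_injective (hp h1)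
        · exact absurd (hp h1) Sum.inl_ne_inr
        · exact absurd (hp h1).symm Sum.inl_ne_inr
        · exact Sum.inr_injective (hp h1)
      rw [h2]
    · exfalso
      rcases h1 with h1 | h1 | h1 | h1 <;>
      · have h2 := congrArg x h1
        apply hne01
        first
          | exact ((hq1 _).symm.trans h2.symm).trans (hp1 _)
    · exfalso
      rcases h1 with h1 | h1 | h1 | h1 <;>
      · have h2 := congrArg x h1
        apply hne01
        first
          | exact ((hq1 _).symm.trans h2).trans (hp1 _)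
    · have h2 : b = b' := by
        rcases h1 with h1 | h1 | h1 | h1
        · exact Sum.inl_injective (hq h1)
        · exact absurd (hq h1) Sum.inl_ne_inr
        · exact absurd (hq h1).symm Sum.inl_ne_inr
        · exact Sum.inr_injective (hq h1)
      rw [h2]
  -- the centres
  have hcx : c = v * ε x := by rw [hva, hx]
  have h1 : ∀ b, ∀ y ∈ o2 (NN ε (f b) (f' b)), y * c * y⁻¹ = c := by
    intro b
    rw [hcx]
    exact (Sit.move_iff h hw (hff b) hv x).mpr (hxf b)
  have hco : ∀ a ∈ V₁, ∀ b ∈ V₁, a * b = b * a := fun a ha b hb => h.V_comm (hV ha) (hV hb)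
  have hsq : ∀ a ∈ V₁, a * a = 1 := fun a ha => by rw [← pow_two]; exact h.V_sq (hV ha)
  have h2 : ∀ b, ∀ y ∈ o2 (centralizer ({c} : Set G)), y * rr ε (f b) (f' b) * y⁻¹ = rr ε (f b) (f' b) :=
    fun b => hc.symm (tr h hA hV hw (hff b)) hco hsq (h1 b)
  have h3 : ∀ b b', ∀ y ∈ o2 (NN ε (f b) (f' b)), y * rr ε (f b') (f' b') * y⁻¹ = rr ε (f b') (f' b') := by
    intro b b' y hy
    by_cases hbb : b = b'
    · subst hbb
      have h4 : y * rr ε (f b) (f' b) = rr ε (f b) (f' b) * y := mem_centralizer_singleton_iff.mp (o2_le _ hy)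
      rw [h4, mul_inv_cancel_right]
    · rcases h.acts (hff b) hy with h4 | h4
      · rw [rr_conj h4]
        rfl
      · rw [rr_conj h4, Equiv.swap_apply_of_ne_of_ne, Equiv.swap_apply_of_ne_of_ne]
        · exact fun h5 => hbb (hf _ _ (Or.inr (Or.inl h5.symm)))
        · exact fun h5 => hbb (hf _ _ (Or.inr (Or.inr (Or.inr h5.symm))))
        · exact fun h5 => hbb (hf _ _ (Or.inl h5.symm))
        · exact fun h5 => hbb (hf _ _ (Or.inr (Or.inr (Or.inl h5.symm))))
  let F : Option (Fin t ⊕ Fin t') → G := fun b => b.elim c fun b => rr ε (f b) (f' b)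
  have h4 := count h hA hV F (by
    rintro (_ | b) (_ | b') hbb
    · rfl
    · exact absurd hbb (hne _ _ (hff b'))
    · exact absurd hbb.symm (hne _ _ (hff b))
    · have h5 : rr ε (f b) (f' b) = rr ε (f b') (f' b') := hbb
      rcases pair_eq hE (Sit.five h) (hff b) h5 with h6 | h6
      · exact congrArg some (hf b b' (Or.inl h6.1.symm))
      · exact congrArg some (hf b b' (Or.inr (Or.inr (Or.inl h6.1.symm)))))
    (by
      rintro (_ | b)
      · exact hc
      · exact tr h hA hV hw (hff b))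
    (by
      rintro (_ | b) (_ | b') y hy
      · have h5 : y * c = c * y := mem_centralizer_singleton_iff.mp (o2_le _ hy)
        change y * c * y⁻¹ = c
        rw [h5, mul_inv_cancel_right]
      · exact h2 b' y hy
      · exact h1 b y hy
      · exact h3 b b' y hy)
  rw [Fintype.card_option, Fintype.card_sum, Fintype.card_fin, Fintype.card_fin] at h4
  have h5 := hcard x
  omega

end Cfsg.Agent.Omega.F4Leaf.Syl.TrV

end
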